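import Groth.Agent.H5.Ctbl.Basic
import Groth.Agent.H5.HomVan.Basic
import Groth.Agent.H44.AffineHom
import Groth.Agent.H33.PCPush.FlatUnit

/-!
# Countability of `Hom(A, L[i])` on an affine scheme, `A` a bounded complex of finite free modules
-/

set_option autoImplicit false
set_option linter.style.haveILetI false

universe u

open CategoryTheory Category Limits Pretriangulated DerivedCategory AlgebraicGeometry
  Scheme.Modules

attribute [local instance] HasDerivedCategory.standard

namespace Groth.Agent.H5.Ctbl.Affine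

open Groth.Agent.H5.Ctbl.Basic Groth.Agent.H5.DQ.SchemeSide Groth.Agent.H5.DQ.HomSingle

variable {T : Scheme.{u}}

/-- sections over the whole scheme of isomorphic modules are equinumerous (one direction) -/
lemma countable_sections_of_iso {M N : T.Modules} (e : M ≅ N) (h : Countable Γ(N, ⊤)) :
    Countable Γ(M, ⊤) := by
  haveI := h
  refine Function.Injective.countable (f := fun x : Γ(M, ⊤) => e.hom.app ⊤ x) (fun x y hxy => ?_)
  have h1 := congrArg (fun z => e.inv.app ⊤ z) hxy
  have h2 : ∀ z : Γ(M, ⊤), e.inv.app ⊤ (e.hom.app ⊤ z) = z := fun z => by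
    have : (e.hom ≫ e.inv).app ⊤ z = z := by rw [e.hom_inv_id]; rfl
    exact this
  simpa [h2] using h1

/-- maps out of the structure sheaf are determined by the image of `1` -/
lemma hom_unit_ext [IsAffine T] {N : T.Modules} (α β : Coh.structureModule T ⟶ N)
    (h : α.app ⊤ (1 : Γ(T, ⊤)) = β.app ⊤ (1 : Γ(T, ⊤))) : α = β := by
  haveI : (Coh.structureModule T).IsQuasicoherent :=
    Groth.Agent.H33.PCPush.isQuasicoherent_structureModule
  refine Groth.Agent.H44.hom_ext_of_app_top _ _ α β (fun m => ?_)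
  have hm : (show Γ(T, ⊤) from m) • (show Γ(Coh.structureModule T, ⊤) from (1 : Γ(T, ⊤))) = m :=
    mul_one (show Γ(T, ⊤) from m)
  rw [← hm, Scheme.Modules.Hom.app_smul, Scheme.Modules.Hom.app_smul, h]

/-- **Base case**: `Hom(O_T, M)` is countable when `Γ(T, H^0 M)` is -/
theorem countable_hom_unit [IsAffine T] (M : DCoh.D T) (hM : DCoh.IsQCohD M)
    (hc : Countable Γ(DCoh.HD M 0, ⊤)) : Countable (T₀ T ⟶ M) := by
  haveI := hc
  have hqc := Groth.Agent.H5.HomVan.Basic.isQCohD_truncLT M hM 0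
  have hLE : ((TStructure.t.truncLT 0).obj M).IsLE (-1) := by
    have : TStructure.t.IsLE ((TStructure.t.truncLT 0).obj M) (0 - 1) := inferInstance
    simpa using this
  have h0 : ∀ g : T₀ T ⟶ (TStructure.t.truncLT 0).obj M, g = 0 := by
    intro g
    have hs := subsingleton_hom_of_isLE _ hqc (-1) 0 hLE (by omega)
    let i0 := (shiftFunctorZero (DCoh.D T) ℤ).app ((TStructure.t.truncLT 0).obj M)
    have := @Subsingleton.elim _ hs (g ≫ i0.inv) 0
    exact (cancel_mono i0.inv).1 (this.trans zero_comp.symm)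
  have h1 : ∀ g : T₀ T ⟶ ((TStructure.t.truncLT 0).obj M)⟦(1 : ℤ)⟧, g = 0 := by
    intro g
    have hs := subsingleton_hom_of_isLE _ hqc (-1) 1 hLE (by omega)
    exact @Subsingleton.elim _ hs g 0
  have hbij := bijective_cmap (Coh.structureModule T) M h0 h1
  let ε : (homologyFunctor T.Modules 0).obj (T₀ T) ≅ Coh.structureModule T :=
    (singleFunctorCompHomologyFunctorIso T.Modules 0).app (Coh.structureModule T)
  refine Function.Injective.countable
    (f := fun φ : T₀ T ⟶ M => (ε.inv ≫ cmap (T₀ T) M φ).app ⊤ (1 : Γ(T, ⊤)))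
    (fun φ ψ hφ => ?_)
  have h2 := hom_unit_ext _ _ hφ
  exact hbij.1 ((cancel_epi ε.inv).1 h2)

/-- `Hom(O_T, L[i])` countable for all `i` -/
theorem CT_unit [IsAffine T] (L : DCoh.D T) (hL : DCoh.IsQCohD L)
    (hc : ∀ i : ℤ, Countable Γ(DCoh.HD L i, ⊤)) : CT (T₀ T) L := by
  intro i
  refine countable_hom_unit (L⟦i⟧) (Groth.Agent.H5.HomVan.MV.isQCohD_shift L hL i) ?_
  exact countable_sections_of_iso
    (((homologyFunctor T.Modules 0).shiftIso i 0 i (by omega)).app L) (hc i)

end Groth.Agent.H5.Ctbl.Affine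

namespace Groth.Agent.H5.Ctbl.Affine

open Groth.Agent.H5.Ctbl.Basic Groth.Agent.H5.DQ.SchemeSide Groth.Agent.H5.DQ.HomSingle

variable {T : Scheme.{u}}

/-- `Hom(O_T[-i], L[k])` countable -/
theorem CT_single_unit [IsAffine T] (i : ℤ) (L : DCoh.D T) (hL : DCoh.IsQCohD L)
    (hc : ∀ i : ℤ, Countable Γ(DCoh.HD L i, ⊤)) :
    CT ((singleFunctor T.Modules i).obj (Coh.structureModule T)) L :=
  CT.of_iso_left (((singleFunctors T.Modules).shiftIso (-i) i 0 (by omega)).app
    (Coh.structureModule T)) (CT.shift_left (CT_unit L hL hc) (-i))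

/-- the same for a finite free module -/
theorem CT_single_free [IsAffine T] (i : ℤ) (n : ℕ) (L : DCoh.D T) (hL : DCoh.IsQCohD L)
    (hc : ∀ i : ℤ, Countable Γ(DCoh.HD L i, ⊤)) :
    CT ((singleFunctor T.Modules i).obj (FlatMod.freeMod T n)) L := by
  intro k
  let S := singleFunctor T.Modules i
  let f : Fin n → T.Modules := fun _ => Coh.structureModule T
  haveI : PreservesColimit (Discrete.functor f) S :=
    (PreservesFiniteCoproducts.preserves n).preservesColimit
  have hcol := isColimitOfPreserves S (coproductIsCoproduct f)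
  haveI := CT_single_unit i L hL hc k
  refine Function.Injective.countable
    (f := fun (φ : S.obj (FlatMod.freeMod T n) ⟶ L⟦k⟧) (j : Fin n) =>
      (S.map (Sigma.ι f j) ≫ φ : S.obj (Coh.structureModule T) ⟶ L⟦k⟧))
    (fun φ ψ hφ => ?_)
  refine hcol.hom_ext (fun j => ?_)
  exact congrFun hφ j.as

/-- **Bounded complexes of finite free modules on an affine scheme.** -/
theorem CT_of_bounded_free [IsAffine T] (E : CochainComplex T.Modules ℤ) (a b : ℤ)
    (hE : ∀ i : ℤ, i < a ∨ b < i → IsZero (E.X i))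
    (hfree : ∀ i : ℤ, ∃ n : ℕ, Nonempty (E.X i ≅ FlatMod.freeMod T n))
    (L : DCoh.D T) (hL : DCoh.IsQCohD L) (hc : ∀ i : ℤ, Countable Γ(DCoh.HD L i, ⊤)) :
    CT (DerivedCategory.Q.obj E) L := by
  refine Groth.Agent.H33.PCPush.induction_bounded' (fun A => CT A L)
    (fun _ M => ∃ n : ℕ, Nonempty (M ≅ FlatMod.freeMod T n))
    ?_ (fun X hX => CT.of_isZero hX L) (fun T' hT h1 h3 => CT.ext T' hT h1 h3) ?_ E a b hE
    (fun i _ _ => hfree i)
  · rintro i M N e ⟨n, ⟨e'⟩⟩
    exact ⟨n, ⟨e.symm ≪≫ e'⟩⟩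
  · rintro M i ⟨n, ⟨e⟩⟩
    exact CT.of_iso_left (((singleFunctor T.Modules i).mapIso e.symm) ≪≫
      (singleFunctorIsoCompQ T.Modules i).app M) (CT_single_free i n L hL hc)

end Groth.Agent.H5.Ctbl.Affine
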