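import Groth.Agent.H5.HomVan.MV

/-!
# Countability of `Hom(A, L[i])` : stability properties and Mayer–Vietoris
-/

set_option autoImplicit false
set_option linter.style.haveILetI false

universe u

open CategoryTheory Category Limits Pretriangulated DerivedCategory AlgebraicGeometry

attribute [local instance] HasDerivedCategory.standard

namespace Groth.Agent.H5.Ctbl.Basic

section abs

variable {C : Type*} [Category C] [Preadditive C] [HasZeroObject C] [HasShift C ℤ]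
  [∀ n : ℤ, (shiftFunctor C n).Additive] [Pretriangulated C]

/-- `Hom(A, L[i])` is countable for all `i` -/
def CT (A L : C) : Prop := ∀ i : ℤ, Countable (A ⟶ L⟦i⟧)

lemma CT.of_iso_left {A A' L : C} (e : A ≅ A') (h : CT A L) : CT A' L := fun i => by
  haveI := h i
  exact Function.Injective.countable (f := fun φ : A' ⟶ L⟦i⟧ => e.hom ≫ φ)
    (fun φ ψ hφ => (cancel_epi e.hom).1 hφ)

lemma CT.of_iso_right {A L L' : C} (e : L ≅ L') (h : CT A L) : CT A L' := fun i => by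
  haveI := h i
  exact Function.Injective.countable (f := fun φ : A ⟶ L'⟦i⟧ => φ ≫ e.inv⟦i⟧')
    (fun φ ψ hφ => (cancel_mono (e.inv⟦i⟧')).1 hφ)

lemma CT.of_isZero {A : C} (hA : IsZero A) (L : C) : CT A L := fun i => by
  haveI : Subsingleton (A ⟶ L⟦i⟧) := ⟨fun a b => hA.eq_of_src a b⟩
  infer_instance

/-- two-out-of-three -/
lemma CT.ext {L : C} (T : Triangle C) (hT : T ∈ distTriang C) (h1 : CT T.obj₁ L)
    (h3 : CT T.obj₃ L) : CT T.obj₂ L := fun i => by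
  classical
  haveI := h1 i
  haveI := h3 i
  let r : (T.obj₂ ⟶ L⟦i⟧) → (T.obj₁ ⟶ L⟦i⟧) := fun f => T.mor₁ ≫ f
  let σ : (T.obj₁ ⟶ L⟦i⟧) → (T.obj₂ ⟶ L⟦i⟧) := fun y =>
    if h : ∃ f, r f = y then h.choose else 0
  let Φ : (T.obj₃ ⟶ L⟦i⟧) × (T.obj₁ ⟶ L⟦i⟧) → (T.obj₂ ⟶ L⟦i⟧) := fun p =>
    T.mor₂ ≫ p.1 + σ p.2
  refine Function.Surjective.countable (f := Φ) (fun f => ?_)
  have hy : ∃ f', r f' = r f := ⟨f, rfl⟩
  have hσ : r (σ (r f)) = r f := by
    simp only [σ, dif_pos hy]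
    exact hy.choose_spec
  have h0 : T.mor₁ ≫ (f - σ (r f)) = 0 := by
    rw [Preadditive.comp_sub]
    exact sub_eq_zero.2 hσ.symm
  obtain ⟨g, hg⟩ := Triangle.yoneda_exact₂ T hT _ h0
  refine ⟨(g, r f), ?_⟩
  simp only [Φ]
  rw [← hg]
  abel

lemma CT.shift_left {A L : C} (h : CT A L) (n : ℤ) : CT (A⟦n⟧) L := fun i => by
  haveI := h (i - n)
  let e1 : A ≅ (A⟦n⟧)⟦-n⟧ := (shiftFunctorCompIsoId C n (-n) (by omega)).symm.app A
  let e2 : (L⟦i⟧)⟦-n⟧ ≅ L⟦i - n⟧ := ((shiftFunctorAdd' C i (-n) (i - n) (by omega)).app L).symm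
  refine Function.Injective.countable
    (f := fun φ : A⟦n⟧ ⟶ L⟦i⟧ => e1.hom ≫ φ⟦-n⟧' ≫ e2.hom) (fun φ ψ hφ => ?_)
  apply (shiftFunctor C (-n)).map_injective
  have h1 := (cancel_epi e1.hom).1 hφ
  exact (cancel_mono e2.hom).1 h1

lemma CT.biprod {A B L : C} [HasBinaryBiproduct A B] (hA : CT A L) (hB : CT B L) :
    CT (A ⊞ B) L := fun i => by
  haveI := hA i
  haveI := hB i
  refine Function.Injective.countable
    (f := fun φ : A ⊞ B ⟶ L⟦i⟧ => ((biprod.inl ≫ φ : A ⟶ L⟦i⟧), (biprod.inr ≫ φ : B ⟶ L⟦i⟧)))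
    (fun φ ψ hφ => ?_)
  have h1 := congrArg Prod.fst hφ
  have h2 := congrArg Prod.snd hφ
  exact biprod.hom_ext' _ _ h1 h2

end abs

section adj

variable {C D : Type*} [Category C] [Category D] [Preadditive C] [Preadditive D]
  [HasZeroObject C] [HasZeroObject D] [HasShift C ℤ] [HasShift D ℤ]
  [∀ n : ℤ, (shiftFunctor C n).Additive] [∀ n : ℤ, (shiftFunctor D n).Additive]
  [Pretriangulated C] [Pretriangulated D]

lemma CT.adj {F : C ⥤ D} {G : D ⥤ C} (adj : F ⊣ G) [G.CommShift ℤ] {B : C} {L : D}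
    (h : CT B (G.obj L)) : CT (F.obj B) L := fun i => by
  haveI := h i
  refine Function.Injective.countable
    (f := fun φ : F.obj B ⟶ L⟦i⟧ =>
      ((adj.homEquiv _ _ φ ≫ (G.commShiftIso i).hom.app L : B ⟶ (G.obj L)⟦i⟧)))
    (fun φ ψ hφ => ?_)
  have h1 := (cancel_mono ((G.commShiftIso i).hom.app L)).1 hφ
  exact (adj.homEquiv _ _).injective h1

end adj

variable {Y : Scheme.{u}}

/-- **Mayer–Vietoris step.** -/
theorem CT_of_cover (U V : Y.Opens) (hUV : U ⊔ V = ⊤) (A L : DCoh.D Y)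
    (hU : CT ((DCoh.restrictD U.ι).obj A) ((DCoh.restrictD U.ι).obj L))
    (hV : CT ((DCoh.restrictD V.ι).obj A) ((DCoh.restrictD V.ι).obj L))
    (hW : CT ((DCoh.restrictD (U ⊓ V).ι).obj A) ((DCoh.restrictD (U ⊓ V).ι).obj L)) :
    CT A L := by
  obtain ⟨α, β, γ, hT⟩ := Groth.Agent.H33.MV.exists_mv_triangle_extZero U V hUV A
  have adjU : CxOX.extZeroD U.ι ⊣ DCoh.restrictD U.ι :=
    Groth.Agent.H33.DerAdjExact.derivedAdj (CxOX.extZeroAdj U.ι)
  have adjV : CxOX.extZeroD V.ι ⊣ DCoh.restrictD V.ι :=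
    Groth.Agent.H33.DerAdjExact.derivedAdj (CxOX.extZeroAdj V.ι)
  have adjW : CxOX.extZeroD (U ⊓ V).ι ⊣ DCoh.restrictD (U ⊓ V).ι :=
    Groth.Agent.H33.DerAdjExact.derivedAdj (CxOX.extZeroAdj (U ⊓ V).ι)
  have hT' := rot_of_distTriang _ hT
  exact CT.ext _ hT' (CT.biprod (CT.adj adjU hU) (CT.adj adjV hV))
    (CT.shift_left (CT.adj adjW hW) 1)

end Groth.Agent.H5.Ctbl.Basic
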