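import Groth.Agent.H5.Ctbl.Affine
import Groth.Agent.H5.HomVan.Perfect

/-!
# Countability of `Hom(E|_U, K|_U[i])` for `E` perfect, `K ∈ D_QCoh` with countable sections
-/

set_option autoImplicit false
set_option linter.style.haveILetI false

universe u

open CategoryTheory Category Limits Pretriangulated DerivedCategory AlgebraicGeometry
  Scheme.Modules Opposite

attribute [local instance] HasDerivedCategory.standard

namespace Groth.Agent.H5.Ctbl.Induct

open Groth.Agent.H5.Ctbl.Basic Groth.Agent.H5.Ctbl.Affine Groth.Agent.H5.HomVan.Induct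
  Groth.Agent.H5.HomVan.Perfect Groth.Agent.H5.HomVan.MV

variable {X : Scheme.{u}}

/-- countability for every open immersion with range `W` -/
def CW (E K : DCoh.D X) (W : X.Opens) : Prop :=
  ∀ (T : Scheme.{u}) (g : T ⟶ X) [IsOpenImmersion g], g.opensRange = W →
    CT ((DCoh.restrictD g).obj E) ((DCoh.restrictD g).obj K)

lemma CW_bot (E K : DCoh.D X) : CW E K ⊥ := by
  intro T g _ hg
  haveI : IsEmpty T := ⟨fun x => by
    have h : g.base x ∈ g.opensRange := ⟨x, rfl⟩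
    rw [hg] at h
    exact h⟩
  exact CT.of_isZero (isZero_of_isEmpty _) _

lemma CW_sup (E K : DCoh.D X) (W₁ W₂ : X.Opens) (h₁ : CW E K W₁) (h₂ : CW E K W₂)
    (h₃ : CW E K (W₁ ⊓ W₂)) : CW E K (W₁ ⊔ W₂) := by
  intro T g _ hg
  let U : T.Opens := g ⁻¹ᵁ W₁
  let V : T.Opens := g ⁻¹ᵁ W₂
  have hUV : U ⊔ V = ⊤ := by
    rw [eq_top_iff]
    intro x _
    have h : g.base x ∈ g.opensRange := ⟨x, rfl⟩
    rw [hg] at h
    exact h
  have e₁ := h₁ _ (U.ι ≫ g) (opensRange_ι_comp g W₁ (hg ▸ le_sup_left))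
  have e₂ := h₂ _ (V.ι ≫ g) (opensRange_ι_comp g W₂ (hg ▸ le_sup_right))
  have e₃ := h₃ _ ((U ⊓ V).ι ≫ g)
    (opensRange_ι_comp g (W₁ ⊓ W₂) (hg ▸ inf_le_left.trans le_sup_left))
  refine CT_of_cover U V hUV _ _ ?_ ?_ ?_
  · exact CT.of_iso_right ((Groth.Agent.H33.Glue.restrictDComp U.ι g).app K)
      (CT.of_iso_left ((Groth.Agent.H33.Glue.restrictDComp U.ι g).app E) e₁)
  · exact CT.of_iso_right ((Groth.Agent.H33.Glue.restrictDComp V.ι g).app K)
      (CT.of_iso_left ((Groth.Agent.H33.Glue.restrictDComp V.ι g).app E) e₂)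
  · exact CT.of_iso_right ((Groth.Agent.H33.Glue.restrictDComp (U ⊓ V).ι g).app K)
      (CT.of_iso_left ((Groth.Agent.H33.Glue.restrictDComp (U ⊓ V).ι g).app E) e₃)

/-- sections of the cohomology of a restriction -/
lemma countable_sections_restrictD (K : DCoh.D X)
    (hKc : ∀ V : X.Opens, IsAffineOpen V → ∀ i : ℤ, Countable ((DCoh.HD K i).val.obj (op V)))
    {T : Scheme.{u}} (g : T ⟶ X) [IsOpenImmersion g] (hg : IsAffineOpen g.opensRange) (i : ℤ) :
    Countable Γ(DCoh.HD ((DCoh.restrictD g).obj K) i, ⊤) := by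
  refine countable_sections_of_iso
    ((Groth.Agent.H16.ExactDer.homologyNatIso (restrictFunctor g) i).app K) ?_
  have h1 : Countable ((DCoh.HD K i).val.obj (op (g ''ᵁ ⊤))) := by
    rw [Scheme.Hom.image_top_eq_opensRange]
    exact hKc _ hg i
  exact h1

lemma CW_of_good {E K : DCoh.D X} (hK : DCoh.IsQCohD K)
    (hKc : ∀ V : X.Opens, IsAffineOpen V → ∀ i : ℤ, Countable ((DCoh.HD K i).val.obj (op V)))
    {W : X.Opens} (hW : IsAffineOpen W) (h : Good E W) : CW E K W := by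
  intro T g _ hg
  haveI : IsAffine T := by
    haveI : IsAffine ↑(g.opensRange) := by rw [hg]; exact hW
    exact IsAffine.of_isIso g.isoOpensRange.hom
  obtain ⟨F, a, b, hF, hfree, ⟨e⟩⟩ := h T g hg.le
  refine CT.of_iso_left e.symm (CT_of_bounded_free F a b hF hfree _
    (isQCohD_restrictD g K hK) (fun i => countable_sections_restrictD K hKc g (hg ▸ hW) i))

/-- the affine case -/
theorem CW_affine {E K : DCoh.D X} (hK : DCoh.IsQCohD K)
    (hKc : ∀ V : X.Opens, IsAffineOpen V → ∀ i : ℤ, Countable ((DCoh.HD K i).val.obj (op V)))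
    (hgood : ∀ x : X, ∃ W : X.Opens, x ∈ W ∧ Good E W)
    (U : X.Opens) (hU : IsAffineOpen U) : CW E K U := by
  classical
  have key : ∀ x : U, ∃ f : Γ(X, U), (x : X) ∈ X.basicOpen f ∧ Good E (X.basicOpen f) := by
    intro x
    obtain ⟨W, hxW, hW⟩ := hgood x
    obtain ⟨f, hfW, hxf⟩ := hU.exists_basicOpen_le (V := W) ⟨x, hxW⟩ x.2
    exact ⟨f, hxf, hW.mono hfW⟩
  choose f hxf hf using key
  obtain ⟨s, hs⟩ := hU.isCompact.elim_finite_subcover (fun x : U => (X.basicOpen (f x) : Set X))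
    (fun x => (X.basicOpen (f x)).isOpen)
    (fun y hy => Set.mem_iUnion.2 ⟨⟨y, hy⟩, hxf ⟨y, hy⟩⟩)
  have hU' : U = s.sup (fun x => X.basicOpen (f x)) := by
    refine le_antisymm ?_ (Finset.sup_le fun x _ => X.basicOpen_le _)
    intro y hy
    obtain ⟨x, hx⟩ := Set.mem_iUnion.1 (hs hy)
    obtain ⟨hxs, hyx⟩ := Set.mem_iUnion.1 hx
    exact (Finset.le_sup (f := fun x => X.basicOpen (f x)) hxs) hyx
  rw [hU']
  refine Groth.Agent.Lead.Coh.finset_sup_induction (CW E K) (CW_bot E K) (CW_sup E K)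
    {W | (∃ r : Γ(X, U), W = X.basicOpen r) ∧ Good E W} ?_ ?_ s _
    (fun x _ => ⟨⟨f x, rfl⟩, hf x⟩)
  · rintro _ ⟨⟨r, rfl⟩, h1⟩ _ ⟨⟨r', rfl⟩, _⟩
    exact ⟨⟨r * r', (X.basicOpen_mul r r').symm⟩, h1.mono inf_le_left⟩
  · rintro _ ⟨⟨r, rfl⟩, h1⟩
    exact CW_of_good hK hKc (hU.basicOpen r) h1

/-- **Main theorem.** -/
theorem main [CompactSpace X] [QuasiSeparatedSpace X] (K : DCoh.D X) (hK : DCoh.IsQCohD K)
    (hKc : ∀ V : X.Opens, IsAffineOpen V → ∀ i : ℤ, Countable ((DCoh.HD K i).val.obj (op V)))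
    (E : DCoh.D X) (hE : DCoh.IsPerfect E) (U : X.Opens) (hU : IsCompact (U : Set X)) :
    CT ((DCoh.restrictD U.ι).obj E) ((DCoh.restrictD U.ι).obj K) := by
  have h := Groth.Agent.Lead.Coh.qcqs_induction (CW E K) (CW_bot E K) (CW_sup E K) ⊤ (by
      rw [TopologicalSpace.Opens.coe_top]
      exact isQuasiSeparated_univ)
    (fun V hV _ => CW_affine hK hKc (exists_good E hE) V hV) U le_top hU
  exact h _ U.ι (Scheme.Opens.opensRange_ι _)

end Groth.Agent.H5.Ctbl.Induct
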